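import Groth.Agent.WStrictLib.Square
import Groth.Agent.WEtLib.Olivier

/-!
# Weakly étale algebras have ind-étale covers
-/

universe u

open scoped TensorProduct

namespace Groth.Agent.WStrictLib

noncomputable section

variable {A B : Type u} [CommRing A] [CommRing B] [Algebra A B]

theorem algebraicResidueExtensions_of_weaklyEtale [Algebra.WeaklyEtale A B] :
    ProEtW.AlgebraicResidueExtensions A B := by
  intro q _
  let p := q.comap (algebraMap A B)
  have : q.LiesOver p := ⟨rfl⟩
  let k := p.ResidueField
  let := Localization.AtPrime.algebraOfLiesOver p q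
  let R := k ⊗[A] B
  let g : R →ₐ[k] q.ResidueField := Algebra.TensorProduct.lift (Algebra.ofId k q.ResidueField)
    (IsScalarTower.toAlgHom A B q.ResidueField) fun _ _ => .all _ _
  have : (RingHom.ker g).IsPrime := RingHom.ker_isPrime g
  let J := RingHom.ker g
  have := WEtLib.weaklyEtale_quotient (K := k) J
  have hfield : IsField (R ⧸ J) :=
    Ideal.Quotient.maximal_ideal_iff_isField_quotient J |>.1 (WEtLib.isMaximal_of_forall_exists (WEtLib.exists_mul_eq (K := k)) J)
  letI := hfield.toField
  refine ⟨fun z => ?_⟩
  obtain ⟨b, rfl⟩ := Ideal.Quotient.mk_surjective z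
  have h0 : IsAlgebraic k (Ideal.Quotient.mk J ((1 : k) ⊗ₜ[A] b)) := WEtLib.algebraic_of_weaklyEtale _
  let g' : (R ⧸ J) →ₐ[k] q.ResidueField := Ideal.Quotient.liftₐ J g fun a ha => ha
  have h1 := h0.algHom g'
  rw [show g' (Ideal.Quotient.mk J ((1 : k) ⊗ₜ[A] b)) = algebraMap B q.ResidueField b by
    refine (Ideal.Quotient.lift_mk J _ _).trans ?_
    change g _ = _
    rw [Algebra.TensorProduct.lift_tmul, map_one, one_mul]
    rfl] at h1
  let : Algebra (A ⧸ p) q.ResidueField :=
    ((algebraMap k q.ResidueField).comp (algebraMap (A ⧸ p) k)).toAlgebra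
  have : IsScalarTower (A ⧸ p) k q.ResidueField := IsScalarTower.of_algebraMap_eq fun _ => rfl
  have h2 : IsAlgebraic (A ⧸ p) (algebraMap B q.ResidueField b) :=
    (IsFractionRing.isAlgebraic_iff (A ⧸ p) k q.ResidueField).2 h1
  refine IsAlgebraic.of_ringHom_of_comp_eq (RingHom.id (A ⧸ p)) (algebraMap (B ⧸ q) q.ResidueField)
    (a := Ideal.Quotient.mk q b) ?_ Function.surjective_id (Ideal.injective_algebraMap_quotient_residueField q) ?_
  · rwa [Ideal.algebraMap_quotient_residueField_mk]
  · refine RingHom.ext fun a => ?_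
    obtain ⟨a, rfl⟩ := Ideal.Quotient.mk_surjective a
    change algebraMap k q.ResidueField (algebraMap (A ⧸ p) k (Ideal.Quotient.mk p a)) =
      algebraMap (B ⧸ q) q.ResidueField (Ideal.Quotient.mk q (algebraMap A B a))
    rw [Ideal.algebraMap_quotient_residueField_mk, Ideal.algebraMap_quotient_residueField_mk,
      ← IsScalarTower.algebraMap_apply, ← IsScalarTower.algebraMap_apply]

theorem exists_indEtale_cover [Algebra.WeaklyEtale A B] :
    ∃ (B' : Type u) (_ : CommRing B') (_ : Algebra B B') (_ : Algebra A B') (_ : IsScalarTower A B B'),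
      Module.FaithfullyFlat B B' ∧ EtPBC.IsIndEtale B B' ∧ EtPBC.IsIndEtale A B' := by
  obtain ⟨C, D, _, _, _, _, _, _, _, _, -, hAC, hffD, hBD, -, hWD, -, hclD, -, -, hH⟩ :=
    exists_square (algebraicResidueExtensions_of_weaklyEtale (A := A) (B := B))
  have := S0736.result B D hBD
  have := S0736.result A C hAC
  have : Algebra.WeaklyEtale A D := Algebra.WeaklyEtale.trans A B D
  have : Algebra.WeaklyEtale C D := WEtLib.cancel (A := A) (B := C) D
  have hZ : EtPBC.IsIndZariski C D := IndZarLib.isIndZariski_of_identifies_closed hWD fun Q hQ => by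
    have h : IsClosed ({PrimeSpectrum.comap (algebraMap C D) Q} : Set (PrimeSpectrum C)) := hclD.le hQ
    let m := Q.asIdeal.comap (algebraMap C D)
    have : m.IsMaximal := (PrimeSpectrum.isClosed_singleton_iff_isMaximal _).1 h
    obtain ⟨_, _⟩ := hH m
    letI : Algebra (Localization.AtPrime m) (Localization.AtPrime Q.asIdeal) :=
      (Localization.localRingHom m Q.asIdeal (algebraMap C D) rfl).toAlgebra
    have : IsScalarTower C (Localization.AtPrime m) (Localization.AtPrime Q.asIdeal) :=
      IsScalarTower.of_algebraMap_eq fun a => ((Localization.localRingHom_to_map m Q.asIdeal (algebraMap C D) rfl a).trans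
        (IsScalarTower.algebraMap_apply C D (Localization.AtPrime Q.asIdeal) a).symm).symm
    have := WLocalLib.weaklyEtale_localization m.primeCompl (Localization.AtPrime m)
    have := WLocalLib.weaklyEtale_localization Q.asIdeal.primeCompl (Localization.AtPrime Q.asIdeal)
    have : Algebra.WeaklyEtale C (Localization.AtPrime Q.asIdeal) := Algebra.WeaklyEtale.trans C D _
    have := WEtLib.cancel (A := C) (B := Localization.AtPrime m) (Localization.AtPrime Q.asIdeal)
    have : IsLocalHom (algebraMap (Localization.AtPrime m) (Localization.AtPrime Q.asIdeal)) :=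
      Localization.isLocalHom_localRingHom m Q.asIdeal (algebraMap C D) rfl
    exact WEtLib.bijective_algebraMap (A := Localization.AtPrime m) (B := Localization.AtPrime Q.asIdeal)
  exact ⟨D, inferInstance, inferInstance, inferInstance, inferInstance, hffD, hBD,
    S0734.result A C D hAC (IndZarLib.isIndEtale_of_isIndZariski hZ)⟩

end

end Groth.Agent.WStrictLib
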