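import Groth.Agent.WStrictLib.AlgRes
import Groth.Agent.EtTensorLib.Iterate
import Groth.Agent.AwLib.IndZar
import Groth.Agent.IndZarLib.LocalRing
import Groth.Agent.IndZarLib.Away
import Groth.Agent.IndZarLib.Closure
import Groth.Agent.ProfLib.Realize
import Groth.Agent.ProfLib.Cover
import Groth.Agent.S0704
import Groth.Agent.S0705
import Groth.Agent.S0675
import Groth.Agent.S0677
import Groth.Agent.WLocalLib.Homeo
import Groth.Agent.Hensel.HenselizationProps
import Groth.Agent.Hensel.Henselization

/-!
# Strictly w-local covers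
-/

universe u

namespace Groth.Agent.WStrictLib

noncomputable section

theorem isStrictlyHenselian_of_ringEquiv {R S : Type u} [CommRing R] [CommRing S] [IsLocalRing S] (e : R ≃+* S)
    (h : EtCoh.IsStrictlyHenselianLocalRing R) : EtCoh.IsStrictlyHenselianLocalRing S := by
  obtain ⟨_, _⟩ := h
  exact ⟨Hensel.henselianLocalRing_of_ringEquiv e, Hensel.isSepClosed_of_ringEquiv (IsLocalRing.ResidueField.mapEquiv e)⟩

theorem isStrictlyHenselian_of_identifies {A B : Type u} [CommRing A] [CommRing B] [Algebra A B]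
    (h : EtPBC.IdentifiesLocalRings A B) (Q : Ideal B) [Q.IsPrime]
    (hA : EtCoh.IsStrictlyHenselianLocalRing (Localization.AtPrime (Q.comap (algebraMap A B)))) :
    EtCoh.IsStrictlyHenselianLocalRing (Localization.AtPrime Q) :=
  isStrictlyHenselian_of_ringEquiv (RingEquiv.ofBijective _ (h ⟨Q, inferInstance⟩)) hA

theorem exists_strict_wlocal (A : Type u) [CommRing A] :
    ∃ (C : Type u) (_ : CommRing C) (_ : Algebra A C),
      Module.FaithfullyFlat A C ∧ EtPBC.IsIndEtale A C ∧ ProEtW.IsWLocal (PrimeSpectrum C) ∧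
      PrimeSpectrum.comap (algebraMap A C) '' ProEtW.closedPoints (PrimeSpectrum C) = Set.univ ∧
      ∀ (m : Ideal C) [m.IsMaximal], EtCoh.IsStrictlyHenselianLocalRing (Localization.AtPrime m) := by
  let W := AwLib.Aw A
  let I : Ideal W := AwLib.clIdeal
  let D := EtTensorLib.Limit W
  have hI : PrimeSpectrum.zeroLocus (R := W) I = ProEtW.closedPoints (PrimeSpectrum W) := AwLib.closedPoints_eq.symm
  have hD := EtTensorLib.isIndEtale_limit W
  have := EtTensorLib.faithfullyFlat_limit W
  have halg := algebraicResidueExtensions_of_isIndEtale hD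
  let J := I.map (algebraMap W D)
  obtain ⟨E, _, _, hZ, hW, hclE, hbij⟩ := S0705.result D J (isProfinite_zeroLocus_map hI halg)
  let : Algebra A D := ((algebraMap W D).comp (algebraMap A W)).toAlgebra
  have : IsScalarTower A W D := IsScalarTower.of_algebraMap_eq fun _ => rfl
  let : Algebra A E := ((algebraMap D E).comp (algebraMap A D)).toAlgebra
  have : IsScalarTower A D E := IsScalarTower.of_algebraMap_eq fun _ => rfl
  have hAE : EtPBC.IsIndEtale A E := S0734.result A D E
    (S0734.result A W D (IndZarLib.isIndEtale_of_isIndZariski (AwLib.isIndZariski A)) hD)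
    (IndZarLib.isIndEtale_of_isIndZariski hZ)
  have := (S0736.result A E hAE).flat
  have hlift : ∀ p : PrimeSpectrum A, ∃ Q ∈ ProEtW.closedPoints (PrimeSpectrum E),
      PrimeSpectrum.comap (algebraMap A E) Q = p := fun p => by
    obtain ⟨q, hq⟩ := PrimeSpectrum.comap_surjective_of_faithfullyFlat (B := D) (AwLib.cl p)
    have hqJ : J ≤ q.asIdeal := by
      rw [Ideal.map_le_iff_le_comap]
      change I ≤ (PrimeSpectrum.comap (algebraMap W D) q).asIdeal
      rw [hq]
      exact hI.ge ((PrimeSpectrum.isClosed_singleton_iff_isMaximal _).2 (AwLib.cl_isMaximal p))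
    let φ := RingEquiv.ofBijective _ hbij
    let θ : E →+* D ⧸ q.asIdeal :=
      (Ideal.Quotient.factor hqJ).comp (φ.symm.toRingHom.comp (Ideal.Quotient.mk (J.map (algebraMap D E))))
    have hθ : θ.comp (algebraMap D E) = Ideal.Quotient.mk q.asIdeal := RingHom.ext fun d => by
      change Ideal.Quotient.factor hqJ (φ.symm (Ideal.Quotient.mk _ (algebraMap D E d))) = _
      rw [show Ideal.Quotient.mk (J.map (algebraMap D E)) (algebraMap D E d) = φ (Ideal.Quotient.mk J d) from rfl,
        RingEquiv.symm_apply_apply, Ideal.Quotient.factor_mk]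
    refine ⟨⟨RingHom.ker θ, RingHom.ker_isPrime θ⟩, ?_, PrimeSpectrum.ext ?_⟩
    · rw [hclE, PrimeSpectrum.mem_zeroLocus]
      intro z hz
      change θ z = 0
      simp only [θ, RingHom.comp_apply]
      rw [Ideal.Quotient.eq_zero_iff_mem.2 hz, map_zero, map_zero]
    · change (RingHom.ker θ).comap (algebraMap A E) = p.asIdeal
      rw [RingHom.comap_ker, IsScalarTower.algebraMap_eq A D E, ← RingHom.comp_assoc, hθ, ← RingHom.comap_ker,
        Ideal.mk_ker, IsScalarTower.algebraMap_eq A W D, ← Ideal.comap_comap]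
      change (PrimeSpectrum.comap (algebraMap A W) (PrimeSpectrum.comap (algebraMap W D) q)).asIdeal = _
      rw [hq, AwLib.comap_cl]
  refine ⟨E, inferInstance, inferInstance, Module.FaithfullyFlat.of_comap_surjective fun p => ?_, hAE, hW,
    Set.eq_univ_of_forall fun p => hlift p, fun m hm => ?_⟩
  · obtain ⟨Q, -, hQ⟩ := hlift p
    exact ⟨Q, hQ⟩
  · have hmax : (m.comap (algebraMap D E)).IsMaximal := by
      refine (PrimeSpectrum.isClosed_singleton_iff_isMaximal ⟨m.comap (algebraMap D E), inferInstance⟩).1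
        (zeroLocus_map_subset_closedPoints hI halg ?_)
      have : (⟨m, hm.isPrime⟩ : PrimeSpectrum E) ∈ ProEtW.closedPoints (PrimeSpectrum E) :=
        (PrimeSpectrum.isClosed_singleton_iff_isMaximal _).2 hm
      rw [hclE] at this
      exact Ideal.map_le_iff_le_comap.1 this
    exact isStrictlyHenselian_of_identifies (IndZarLib.identifiesLocalRings_of_isIndZariski hZ) m
      (S0675.result D (EtTensorLib.hasEtaleRetractions_limit W) _)

theorem exists_wContractible (A : Type u) [CommRing A] :
    ∃ (G : Type u) (_ : CommRing G) (_ : Algebra A G),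
      Module.FaithfullyFlat A G ∧ EtPBC.IsIndEtale A G ∧ EtPBC.IsWContractible G := by
  obtain ⟨E, _, _, hff, hAE, hW, hcl, hH⟩ := exists_strict_wlocal A
  have := hW.1
  have := WLocalLib.t2Space_components (PrimeSpectrum E)
  have : CompactSpace (ProfLib.Pi0 E) := Quotient.compactSpace
  obtain ⟨T, _, _, _, _, _, g, hg⟩ := ProfLib.exists_extremallyDisconnected_cover (ProfLib.Pi0 E)
  let G := ProfLib.realize g
  have hZ : EtPBC.IsIndZariski E G :=
    IndZarLib.isIndZariski_trans_of_pi (IndZarLib.isIndZariski_of_isLocalIso (A := E) (B := E)) fun P _ _ _ φ =>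
      ProfLib.exists_pi_factor g P φ
  have hS := S0704.result _ T hW g
  have hWG : ProEtW.IsWLocal (PrimeSpectrum G) := WLocalLib.isWLocal_homeo (ProfLib.homeoFibre g) hS.1
  obtain ⟨e, -⟩ := ProfLib.exists_components_homeo g
  have hmax : ∀ Q : PrimeSpectrum G, IsClosed ({Q} : Set (PrimeSpectrum G)) ↔
      IsClosed ({PrimeSpectrum.comap (algebraMap E G) Q} : Set (PrimeSpectrum E)) := fun Q => by
    rw [← WLocalLib.isClosed_singleton_homeo (ProfLib.homeoFibre g) Q]
    exact Set.ext_iff.1 hS.2.2 (ProfLib.homeoFibre g Q)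
  have hcon : EtPBC.IsWContractible G := (S0677.result G).2 ⟨hWG, extremallyDisconnected_of_homeo e.symm, fun m hm => by
    have h1 := (hmax ⟨m, hm.isPrime⟩).1 ((PrimeSpectrum.isClosed_singleton_iff_isMaximal _).2 hm)
    have : (m.comap (algebraMap E G)).IsMaximal := (PrimeSpectrum.isClosed_singleton_iff_isMaximal _).1 h1
    exact isStrictlyHenselian_of_identifies (IndZarLib.identifiesLocalRings_of_isIndZariski hZ) m (hH _)⟩
  let : Algebra A G := ((algebraMap E G).comp (algebraMap A E)).toAlgebra
  have : IsScalarTower A E G := IsScalarTower.of_algebraMap_eq fun _ => rfl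
  have hAG : EtPBC.IsIndEtale A G := S0734.result A E G hAE (IndZarLib.isIndEtale_of_isIndZariski hZ)
  have := (S0736.result A G hAG).flat
  refine ⟨G, inferInstance, inferInstance, Module.FaithfullyFlat.of_comap_surjective fun p => ?_, hAG, hcon⟩
  obtain ⟨x, -, hx⟩ := hcl.ge (Set.mem_univ p)
  obtain ⟨t, ht⟩ := hg (_root_.ConnectedComponents.mk x)
  obtain ⟨Q, hQ⟩ : ((x, t) : PrimeSpectrum E × T) ∈ Set.range (ProfLib.toProd g) := by
    rw [ProfLib.range_toProd]; exact ht.symm
  refine ⟨Q, ?_⟩
  rw [← hx, ← show PrimeSpectrum.comap (algebraMap E G) Q = x from congrArg Prod.fst hQ, ← PrimeSpectrum.comap_comp_apply]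
  rfl

end

end Groth.Agent.WStrictLib
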