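import Groth.Agent.IndEtLib.Sys
import Groth.Prelude.Def_ProEtW
import Groth.Agent.AwLib.ClosedSubset
import Mathlib.RingTheory.Etale.QuasiFinite
import Mathlib.RingTheory.Algebraic.Integral
import Groth.Agent.SpecLib.T1Profinite

/-!
# Algebraic residue extensions and w-localization along closed points
-/

universe u

namespace Groth.Agent.WStrictLib

noncomputable section

variable {A B : Type u} [CommRing A] [CommRing B] [Algebra A B]

theorem algebraicResidueExtensions_of_isIndEtale (h : EtPBC.IsIndEtale A B) :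
    ProEtW.AlgebraicResidueExtensions A B := by
  intro q _
  refine ⟨fun z => ?_⟩
  obtain ⟨x, rfl⟩ := Ideal.Quotient.mk_surjective z
  obtain ⟨S, hS, ⟨e⟩⟩ := IndEtLib.exists_sys h
  obtain ⟨j, y, hy⟩ := S.surj (e.symm x)
  have := hS j
  let ι : S.A j →ₐ[A] B := e.toAlgHom.comp (S.ι j)
  let q' : Ideal (S.A j) := q.comap ι.toRingHom
  let p : Ideal A := q.comap (algebraMap A B)
  have : q'.LiesOver p := ⟨by
    change q.comap (algebraMap A B) = (q.comap ι.toRingHom).comap (algebraMap A (S.A j))
    rw [Ideal.comap_comap, show ι.toRingHom.comp (algebraMap A (S.A j)) = algebraMap A B from ι.comp_algebraMap]⟩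
  let := Localization.AtPrime.algebraOfLiesOver p q'
  have : Module.Finite p.ResidueField q'.ResidueField := inferInstance
  let : Algebra (A ⧸ p) q'.ResidueField :=
    ((algebraMap p.ResidueField q'.ResidueField).comp (algebraMap (A ⧸ p) p.ResidueField)).toAlgebra
  have : IsScalarTower (A ⧸ p) p.ResidueField q'.ResidueField := IsScalarTower.of_algebraMap_eq fun _ => rfl
  have : IsScalarTower (A ⧸ p) (S.A j ⧸ q') q'.ResidueField := IsScalarTower.of_algebraMap_eq fun a => by
    obtain ⟨a, rfl⟩ := Ideal.Quotient.mk_surjective a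
    change algebraMap p.ResidueField q'.ResidueField (algebraMap (A ⧸ p) p.ResidueField (Ideal.Quotient.mk p a)) =
      algebraMap (S.A j ⧸ q') q'.ResidueField (Ideal.Quotient.mk q' (algebraMap A (S.A j) a))
    rw [Ideal.algebraMap_quotient_residueField_mk, Ideal.algebraMap_quotient_residueField_mk,
      ← IsScalarTower.algebraMap_apply, ← IsScalarTower.algebraMap_apply]
  have h1 : IsAlgebraic p.ResidueField (algebraMap (S.A j) q'.ResidueField y) :=
    Algebra.IsAlgebraic.isAlgebraic _
  have h2 : IsAlgebraic (A ⧸ p) (algebraMap (S.A j) q'.ResidueField y) :=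
    (IsFractionRing.isAlgebraic_iff (A ⧸ p) p.ResidueField q'.ResidueField).2 h1
  let g : S.A j ⧸ q' →ₐ[A ⧸ p] B ⧸ q :=
    { Ideal.quotientMap q ι.toRingHom le_rfl with
      commutes' := fun a => by
        obtain ⟨a, rfl⟩ := Ideal.Quotient.mk_surjective a
        exact congrArg (Ideal.Quotient.mk q) (ι.commutes a) }
  have h3 : IsAlgebraic (A ⧸ p) (Ideal.Quotient.mk q' y) :=
    (isAlgebraic_algHom_iff ((IsScalarTower.toAlgHom (A ⧸ p) (S.A j ⧸ q') q'.ResidueField))
      (Ideal.injective_algebraMap_quotient_residueField q')).1 h2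
  have h4 := h3.algHom g
  rwa [show g (Ideal.Quotient.mk q' y) = Ideal.Quotient.mk q x from
    congrArg (Ideal.Quotient.mk q) (by simp [ι, hy])] at h4

theorem isMaximal_of_algebraicResidue (h : ProEtW.AlgebraicResidueExtensions A B) (q : Ideal B) [q.IsPrime]
    (hp : (q.comap (algebraMap A B)).IsMaximal) : q.IsMaximal := by
  let := Ideal.Quotient.field (q.comap (algebraMap A B))
  have := h q
  have : Algebra.IsIntegral (A ⧸ q.comap (algebraMap A B)) (B ⧸ q) := Algebra.IsAlgebraic.isIntegral
  exact Ideal.Quotient.maximal_of_isField q (isField_of_isIntegral_of_isField' (Field.toIsField (A ⧸ q.comap (algebraMap A B))))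

variable {I : Ideal A}

theorem zeroLocus_map_subset_closedPoints
    (hI : PrimeSpectrum.zeroLocus (R := A) I = ProEtW.closedPoints (PrimeSpectrum A))
    (h : ProEtW.AlgebraicResidueExtensions A B) :
    PrimeSpectrum.zeroLocus (R := B) (I.map (algebraMap A B)) ⊆ ProEtW.closedPoints (PrimeSpectrum B) := fun q hq => by
  refine (PrimeSpectrum.isClosed_singleton_iff_isMaximal _).2 (isMaximal_of_algebraicResidue h q.asIdeal ?_)
  refine (PrimeSpectrum.isClosed_singleton_iff_isMaximal (PrimeSpectrum.comap (algebraMap A B) q)).1 ?_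
  exact hI.le (Ideal.map_le_iff_le_comap.1 hq)

theorem isProfinite_zeroLocus_map
    (hI : PrimeSpectrum.zeroLocus (R := A) I = ProEtW.closedPoints (PrimeSpectrum A))
    (h : ProEtW.AlgebraicResidueExtensions A B) :
    ProEtW.IsProfinite (PrimeSpectrum.zeroLocus (R := B) (I.map (algebraMap A B) : Set B)) := by
  have hc := PrimeSpectrum.isClosed_zeroLocus (R := B) (I.map (algebraMap A B) : Set B)
  have : SpectralSpace (PrimeSpectrum.zeroLocus (R := B) (I.map (algebraMap A B) : Set B)) :=
    SpecLib.spectralSpace_of_cc (SpecLib.cc_of_isClosed hc)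
  have : T1Space (PrimeSpectrum.zeroLocus (R := B) (I.map (algebraMap A B) : Set B)) := ⟨fun y => by
    rw [hc.isClosedEmbedding_subtypeVal.isClosed_iff_image_isClosed, Set.image_singleton]
    exact zeroLocus_map_subset_closedPoints hI h y.2⟩
  exact SpecLib.profinite_of_t1 _

/-- the w-localization of `B` along the preimage of the closed points of `A` -/
theorem closedPoints_eq_preimage
    (hI : PrimeSpectrum.zeroLocus (R := A) I = ProEtW.closedPoints (PrimeSpectrum A))
    {C : Type u} [CommRing C] [Algebra A C]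
    (hC : ProEtW.closedPoints (PrimeSpectrum C) = PrimeSpectrum.zeroLocus (R := C) (I.map (algebraMap A C))) :
    ProEtW.closedPoints (PrimeSpectrum C) =
      PrimeSpectrum.comap (algebraMap A C) ⁻¹' ProEtW.closedPoints (PrimeSpectrum A) := by
  rw [hC, ← hI, PrimeSpectrum.preimage_comap_zeroLocus, Ideal.map, PrimeSpectrum.zeroLocus_span]

end

end Groth.Agent.WStrictLib
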