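import Groth.Agent.WStrictLib.Cover
import Groth.Agent.S0737
import Groth.Agent.S0733
import Groth.Agent.S0735
import Groth.Agent.WEtLib.Field
import Groth.Agent.IndZarLib.WLocal
import Groth.Agent.WLocalLib.WEtale
import Mathlib.RingTheory.TensorProduct.Nontrivial

/-!
# The strictly w-local square of a map with algebraic residue extensions
-/

universe u

open scoped TensorProduct

namespace Groth.Agent.WStrictLib

noncomputable section

variable {A B : Type u} [CommRing A] [CommRing B] [Algebra A B]

/-- points of a tensor product -/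
theorem exists_point_tensor {C : Type u} [CommRing C] [Algebra A C] (q : PrimeSpectrum B) (x : PrimeSpectrum C)
    (h : PrimeSpectrum.comap (algebraMap A B) q = PrimeSpectrum.comap (algebraMap A C) x) :
    ∃ r : PrimeSpectrum (C ⊗[A] B), PrimeSpectrum.comap (Algebra.TensorProduct.includeRight (R := A) (A := C) (B := B)).toRingHom r = q ∧
      PrimeSpectrum.comap (algebraMap C (C ⊗[A] B)) r = x := by
  let p := q.asIdeal.under A
  have : q.asIdeal.LiesOver p := ⟨rfl⟩
  have : x.asIdeal.LiesOver p := ⟨congrArg PrimeSpectrum.asIdeal h⟩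
  let := Localization.AtPrime.algebraOfLiesOver p q.asIdeal
  let := Localization.AtPrime.algebraOfLiesOver p x.asIdeal
  let k := p.ResidueField
  have : Nontrivial (x.asIdeal.ResidueField ⊗[k] q.asIdeal.ResidueField) :=
    Algebra.TensorProduct.nontrivial_of_algebraMap_injective_of_isDomain k _ _ (algebraMap k x.asIdeal.ResidueField).injective
      (algebraMap k q.asIdeal.ResidueField).injective
  obtain ⟨M, hM⟩ := Ideal.exists_maximal (x.asIdeal.ResidueField ⊗[k] q.asIdeal.ResidueField)
  let K := (x.asIdeal.ResidueField ⊗[k] q.asIdeal.ResidueField) ⧸ M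
  let π : x.asIdeal.ResidueField ⊗[k] q.asIdeal.ResidueField →ₐ[A] K := Ideal.Quotient.mkₐ A M
  let gx : x.asIdeal.ResidueField →ₐ[A] K := π.comp
    ((Algebra.TensorProduct.includeLeft (R := k) (S := k)).restrictScalars A)
  let gq : q.asIdeal.ResidueField →ₐ[A] K := π.comp
    ((Algebra.TensorProduct.includeRight (R := k)).restrictScalars A)
  let g : C ⊗[A] B →ₐ[A] K := Algebra.TensorProduct.lift (gx.comp (IsScalarTower.toAlgHom A C _))
    (gq.comp (IsScalarTower.toAlgHom A B _)) fun _ _ => .all _ _
  refine ⟨⟨RingHom.ker g, RingHom.ker_isPrime g⟩, PrimeSpectrum.ext (Ideal.ext fun b => ?_),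
    PrimeSpectrum.ext (Ideal.ext fun c => ?_)⟩
  · change g (1 ⊗ₜ b) = 0 ↔ _
    rw [Algebra.TensorProduct.lift_tmul, map_one, one_mul, AlgHom.comp_apply,
      map_eq_zero_iff gq gq.toRingHom.injective, IsScalarTower.coe_toAlgHom', Ideal.algebraMap_residueField_eq_zero]
  · change g (c ⊗ₜ 1) = 0 ↔ _
    rw [Algebra.TensorProduct.lift_tmul, map_one, mul_one, AlgHom.comp_apply,
      map_eq_zero_iff gx gx.toRingHom.injective, IsScalarTower.coe_toAlgHom', Ideal.algebraMap_residueField_eq_zero]

theorem algebraicResidueExtensions_baseChange (h : ProEtW.AlgebraicResidueExtensions A B)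
    (C : Type u) [CommRing C] [Algebra A C] : ProEtW.AlgebraicResidueExtensions C (C ⊗[A] B) := by
  intro r _
  let ι := (Algebra.TensorProduct.includeRight (R := A) (A := C) (B := B))
  let q := r.comap ι.toRingHom
  let P := r.comap (algebraMap C (C ⊗[A] B))
  let p := q.comap (algebraMap A B)
  have hp : p = P.comap (algebraMap A C) := by
    simp only [p, q, P, Ideal.comap_comap]
    congr 1
    rw [← IsScalarTower.algebraMap_eq]
    exact ι.comp_algebraMap
  let f : (A ⧸ p) →+* C ⧸ P := Ideal.quotientMap P (algebraMap A C) hp.le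
  let g : (B ⧸ q) →+* (C ⊗[A] B) ⧸ r := Ideal.quotientMap r ι.toRingHom le_rfl
  have hf : Function.Injective f := Ideal.quotientMap_injective' hp.ge
  refine ⟨fun z => ?_⟩
  obtain ⟨z, rfl⟩ := Ideal.Quotient.mk_surjective z
  induction z using TensorProduct.induction_on with
  | zero => rw [map_zero]; exact isAlgebraic_zero
  | tmul c b =>
    rw [← mul_one c, ← one_mul b, ← Algebra.TensorProduct.tmul_mul_tmul, map_mul]
    refine IsAlgebraic.mul ?_ ?_
    · exact isAlgebraic_algebraMap (Ideal.Quotient.mk P c)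
    · exact ((h q).isAlgebraic (Ideal.Quotient.mk q b)).ringHom_of_comp_eq f g hf (RingHom.ext fun a => by
        obtain ⟨a, rfl⟩ := Ideal.Quotient.mk_surjective a
        exact congrArg (Ideal.Quotient.mk r) ((IsScalarTower.algebraMap_apply A C (C ⊗[A] B) a).symm.trans
          (ι.commutes a).symm))
  | add a b ha hb => rw [map_add]; exact ha.add hb

/-- the square -/
theorem exists_square (h : ProEtW.AlgebraicResidueExtensions A B) :
    ∃ (C D : Type u) (_ : CommRing C) (_ : CommRing D) (_ : Algebra A C) (_ : Algebra B D)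
      (_ : Algebra C D) (_ : Algebra A D) (_ : IsScalarTower A C D) (_ : IsScalarTower A B D),
      Module.FaithfullyFlat A C ∧ EtPBC.IsIndEtale A C ∧ Module.FaithfullyFlat B D ∧
      EtPBC.IsIndEtale B D ∧ ProEtW.IsWLocal (PrimeSpectrum C) ∧ ProEtW.IsWLocal (PrimeSpectrum D) ∧
      ProEtW.IsWLocalMap (PrimeSpectrum.comap (algebraMap C D)) ∧
      ProEtW.closedPoints (PrimeSpectrum D) =
        PrimeSpectrum.comap (algebraMap C D) ⁻¹' ProEtW.closedPoints (PrimeSpectrum C) ∧
      PrimeSpectrum.comap (algebraMap A C) '' ProEtW.closedPoints (PrimeSpectrum C) = Set.univ ∧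
      PrimeSpectrum.comap (algebraMap B D) '' ProEtW.closedPoints (PrimeSpectrum D) = Set.univ ∧
      ∀ (m : Ideal C) [m.IsMaximal], EtCoh.IsStrictlyHenselianLocalRing (Localization.AtPrime m) := by
  obtain ⟨C, _, _, hff, hAC, hW, hcl, hH⟩ := exists_strict_wlocal A
  let BC := C ⊗[A] B
  let : Algebra B BC := Algebra.TensorProduct.rightAlgebra
  let I := PrimeSpectrum.vanishingIdeal (ProEtW.closedPoints (PrimeSpectrum C))
  have hI : PrimeSpectrum.zeroLocus (R := C) I = ProEtW.closedPoints (PrimeSpectrum C) := by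
    rw [PrimeSpectrum.zeroLocus_vanishingIdeal_eq_closure]; exact hW.2.1.closure_eq
  obtain ⟨-, D, _, _, _, _, hZ, hbij, hWD, hWm, hclD⟩ := S0737.result C BC hW I (PrimeSpectrum.isRadical_vanishingIdeal _) hI
    (algebraicResidueExtensions_baseChange h C)
  have hBBC : EtPBC.IsIndEtale B BC := by
    have h1 := (S0733.result A C B hAC)
    exact IndEtLib.isIndEtale_of_factor fun P _ _ _ φ => by
      obtain ⟨S, hS, ⟨e⟩⟩ := IndEtLib.exists_sys h1
      let c : (B ⊗[A] C) ≃ₐ[B] BC := AlgEquiv.ofRingEquiv (f := (Algebra.TensorProduct.comm A B C).toRingEquiv)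
        fun b => Algebra.TensorProduct.comm_tmul A b (1 : C)
      let e' : S.pt ≃ₐ[B] BC := e.trans c
      obtain ⟨j, ψ, hψ⟩ := S.exists_lift P (e'.symm.toAlgHom.comp φ)
      refine ⟨S.A j, inferInstance, inferInstance, hS j, ψ, e'.toAlgHom.comp (S.ι j), ?_⟩
      rw [AlgHom.comp_assoc, hψ]
      ext p
      simp
  let : Algebra B D := ((algebraMap BC D).comp (algebraMap B BC)).toAlgebra
  have : IsScalarTower B BC D := IsScalarTower.of_algebraMap_eq fun _ => rfl
  let : Algebra A D := ((algebraMap C D).comp (algebraMap A C)).toAlgebra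
  have : IsScalarTower A C D := IsScalarTower.of_algebraMap_eq fun _ => rfl
  have : IsScalarTower A B D := IsScalarTower.of_algebraMap_eq fun a => by
    change algebraMap C D (algebraMap A C a) = algebraMap BC D ((1 : C) ⊗ₜ[A] algebraMap A B a)
    rw [IsScalarTower.algebraMap_apply C BC D, ← IsScalarTower.algebraMap_apply A C BC,
      ← (Algebra.TensorProduct.includeRight (R := A) (A := C) (B := B)).commutes]
    rfl
  have hBD : EtPBC.IsIndEtale B D := S0734.result B BC D hBBC (IndZarLib.isIndEtale_of_isIndZariski hZ)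
  have := (S0736.result B D hBD).flat
  let J := I.map (algebraMap C BC)
  have hlift : ∀ q : PrimeSpectrum B, ∃ Q ∈ ProEtW.closedPoints (PrimeSpectrum D),
      PrimeSpectrum.comap (algebraMap B D) Q = q := fun q => by
    obtain ⟨x, hx, hxq⟩ := hcl.ge (Set.mem_univ (PrimeSpectrum.comap (algebraMap A B) q))
    obtain ⟨r, hr1, hr2⟩ := exists_point_tensor (A := A) q x hxq.symm
    have hrJ : J ≤ r.asIdeal := by
      rw [Ideal.map_le_iff_le_comap]
      change I ≤ (PrimeSpectrum.comap (algebraMap C BC) r).asIdeal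
      rw [hr2]
      exact hI.ge hx
    let φ := RingEquiv.ofBijective _ hbij
    let θ : D →+* BC ⧸ r.asIdeal :=
      (Ideal.Quotient.factor hrJ).comp (φ.symm.toRingHom.comp (Ideal.Quotient.mk (J.map (algebraMap BC D))))
    have hθ : θ.comp (algebraMap BC D) = Ideal.Quotient.mk r.asIdeal := RingHom.ext fun d => by
      change Ideal.Quotient.factor hrJ (φ.symm (Ideal.Quotient.mk _ (algebraMap BC D d))) = _
      rw [show Ideal.Quotient.mk (J.map (algebraMap BC D)) (algebraMap BC D d) = φ (Ideal.Quotient.mk J d) from rfl,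
        RingEquiv.symm_apply_apply, Ideal.Quotient.factor_mk]
    have hQ : PrimeSpectrum.comap (algebraMap BC D) ⟨RingHom.ker θ, RingHom.ker_isPrime θ⟩ = r := PrimeSpectrum.ext (by
      change (RingHom.ker θ).comap (algebraMap BC D) = r.asIdeal
      rw [RingHom.comap_ker, hθ, Ideal.mk_ker])
    refine ⟨⟨RingHom.ker θ, RingHom.ker_isPrime θ⟩, ?_, ?_⟩
    · rw [hclD, Set.mem_preimage, IsScalarTower.algebraMap_eq C BC D, PrimeSpectrum.comap_comp_apply, hQ, hr2]
      exact hx
    · rw [show algebraMap B D = (algebraMap BC D).comp (algebraMap B BC) from rfl, PrimeSpectrum.comap_comp_apply, hQ]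
      exact hr1
  exact ⟨C, D, inferInstance, inferInstance, inferInstance, inferInstance, inferInstance, inferInstance, inferInstance, inferInstance,
    hff, hAC, Module.FaithfullyFlat.of_comap_surjective (fun q => ⟨(hlift q).choose, (hlift q).choose_spec.2⟩), hBD,
    hW, hWD, hWm, hclD, hcl, Set.eq_univ_of_forall fun q => hlift q, hH⟩

end

end Groth.Agent.WStrictLib
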